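import Mathlib
import Groth.Prelude.Def_EGA41
import Groth.Agent.PBasisLib.Fields
import Groth.Agent.PBasisLib.Kaehler

/-!
Admissible subfields for modules of imperfection (EGA 0_IV 21.8).
-/

set_option autoImplicit false

universe u

open scoped TensorProduct

namespace Groth.Agent.ImperfLib

section Indep

variable {K : Type u} [Field K] {ι : Type u} [Preorder ι] [IsDirected ι (· ≤ ·)] [Nonempty ι]

/-- A finite family linearly independent over the intersection of a directed family of subfields is
linearly independent over one of them. -/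
theorem exists_indep_of_iInf (F : ι → Subfield K) (hF : Antitone F) {m : Type*} (v : m → K) (s : Finset m)
    (h : ∀ c : m → K, (∀ e ∈ s, ∀ i, c e ∈ F i) → (∑ e ∈ s, c e * v e) = 0 → ∀ e ∈ s, c e = 0) :
    ∃ i, ∀ c : m → K, (∀ e ∈ s, c e ∈ F i) → (∑ e ∈ s, c e * v e) = 0 → ∀ e ∈ s, c e = 0 := by
  classical
  induction s using Finset.induction_on with
  | empty => exact ⟨Classical.arbitrary ι, fun c _ _ e he => absurd he (Finset.notMem_empty e)⟩
  | insert w s hw ih =>
    obtain ⟨i₀, hi₀⟩ := ih fun c hc hsum e he => by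
      have h1 := h (Function.update c w 0) (fun e' he' i => by
        rcases Finset.mem_insert.1 he' with rfl | h'
        · rw [Function.update_self]; exact zero_mem _
        · rw [Function.update_of_ne (ne_of_mem_of_not_mem h' hw)]; exact hc e' h' i) (by
        rw [Finset.sum_insert hw, Function.update_self, zero_mul, zero_add]
        refine Eq.trans (Finset.sum_congr rfl fun e' he' => ?_) hsum
        rw [Function.update_of_ne (ne_of_mem_of_not_mem he' hw)]) e (Finset.mem_insert_of_mem he)
      rwa [Function.update_of_ne (ne_of_mem_of_not_mem he hw)] at h1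
    by_contra hne
    push Not at hne
    have key : ∀ j, i₀ ≤ j → ∃ d : m → K, (∀ e ∈ s, d e ∈ F j) ∧ v w + ∑ e ∈ s, d e * v e = 0 := by
      intro j hj
      obtain ⟨c, hc, hsum, e, he, hce⟩ := hne j
      have hcw : c w ≠ 0 := by
        intro h0
        rw [Finset.sum_insert hw, h0, zero_mul, zero_add] at hsum
        rcases Finset.mem_insert.1 he with rfl | h'
        · exact hce h0
        · exact hce (hi₀ c (fun e' he' => hF hj (hc e' (Finset.mem_insert_of_mem he'))) hsum e h')
      refine ⟨fun e => (c w)⁻¹ * c e, fun e he' =>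
        (F j).mul_mem ((F j).inv_mem (hc w (Finset.mem_insert_self w s))) (hc e (Finset.mem_insert_of_mem he')), ?_⟩
      rw [Finset.sum_insert hw] at hsum
      have h2 : (∑ e ∈ s, (c w)⁻¹ * c e * v e) = (c w)⁻¹ * ∑ e ∈ s, c e * v e := by
        rw [Finset.mul_sum]
        exact Finset.sum_congr rfl fun e _ => mul_assoc _ _ _
      rw [h2, eq_neg_of_add_eq_zero_right hsum]
      field_simp
      ring
    obtain ⟨d₀, hd₀, hd₀sum⟩ := key i₀ le_rfl
    have hall : ∀ i, ∀ e ∈ s, d₀ e ∈ F i := by
      intro i e he
      obtain ⟨j, hj₀, hji⟩ := exists_ge_ge i₀ i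
      obtain ⟨d, hd, hdsum⟩ := key j hj₀
      have h3 := hi₀ (fun e => d₀ e - d e) (fun e' he' => (F i₀).sub_mem (hd₀ e' he') (hF hj₀ (hd e' he'))) (by
        simp only [sub_mul, Finset.sum_sub_distrib]
        linear_combination hd₀sum - hdsum) e he
      rw [sub_eq_zero.1 h3]
      exact hF hji (hd e he)
    have h4 := h (Function.update d₀ w 1) (fun e' he' i => by
      rcases Finset.mem_insert.1 he' with rfl | h'
      · rw [Function.update_self]; exact one_mem _
      · rw [Function.update_of_ne (ne_of_mem_of_not_mem h' hw)]; exact hall i e' h') (by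
      rw [Finset.sum_insert hw, Function.update_self, one_mul]
      refine Eq.trans (congrArg (v w + ·) (Finset.sum_congr rfl fun e' he' => ?_)) hd₀sum
      rw [Function.update_of_ne (ne_of_mem_of_not_mem he' hw)]) w (Finset.mem_insert_self w s)
    rw [Function.update_self] at h4
    exact one_ne_zero h4

end Indep

section Fields

variable (p : ℕ) {k K : Type u} [Field k] [Field K] [Algebra k K] [CharP K p]

/-- Elements whose differential lies in a given subspace. -/
def derivField {M : Type*} [AddCommGroup M] [Module K M] [Module k M]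
    (D : Derivation k K M) (W : Submodule K M) : IntermediateField k K where
  carrier := {y | D y ∈ W}
  mul_mem' {a b} ha hb := by
    show D (a * b) ∈ W
    rw [D.leibniz]
    exact add_mem (W.smul_mem _ hb) (W.smul_mem _ ha)
  one_mem' := by show D 1 ∈ W; simp
  add_mem' {a b} ha hb := by
    show D (a + b) ∈ W
    rw [map_add]
    exact add_mem ha hb
  zero_mem' := by show D 0 ∈ W; simp
  algebraMap_mem' c := by show D (algebraMap k K c) ∈ W; simp
  inv_mem' a ha := by
    show D a⁻¹ ∈ W
    rw [D.leibniz_inv]
    exact W.smul_mem _ ha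

theorem pow_mem_derivField {M : Type*} [AddCommGroup M] [Module K M] [Module k M]
    (D : Derivation k K M) (W : Submodule K M) (y : K) : y ^ p ∈ derivField D W := by
  show D (y ^ p) ∈ W
  rw [D.leibniz_pow, ← Nat.cast_smul_eq_nsmul K, CharP.cast_eq_zero K p, zero_smul]
  exact W.zero_mem

variable [Fact p.Prime]

theorem mem_pPower_of_D_eq_zero {y : K} (h : KaehlerDifferential.D k K y = 0) :
    y ∈ EGA41.pPowerSubalgebra p k K := by
  have h1 : y ∈ Algebra.adjoin (EGA41.pPowerSubalgebra p k K) (∅ : Set K) :=
    PBasisLib.mem_adjoin_of_forall_derivation p (∅ : Set K) (a := y) fun D _ => by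
    rw [← D.liftKaehlerDifferential_comp_D y]
    exact (congrArg D.liftKaehlerDifferential h).trans (map_zero _)
  rw [Algebra.adjoin_empty, Algebra.mem_bot] at h1
  obtain ⟨z, hz⟩ := h1
  exact hz ▸ z.2

theorem D_eq_zero_of_mem_pPower {y : K} (h : y ∈ EGA41.pPowerSubalgebra p k K) :
    KaehlerDifferential.D k K y = 0 := by
  have h1 : EGA41.pPowerSubalgebra p k K ≤ (derivField (KaehlerDifferential.D k K) ⊥).toSubalgebra := by
    refine Algebra.adjoin_le ?_
    rintro _ ⟨b, rfl⟩
    exact pow_mem_derivField p (KaehlerDifferential.D k K) ⊥ b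
  exact (Submodule.mem_bot K).1 (h1 h)

theorem mem_sup_iff (F : IntermediateField k K) (y : K) :
    y ∈ F ⊔ IntermediateField.adjoin k (Set.range fun z : K => z ^ p) ↔ y ∈ EGA41.pPowerSubalgebra p F K := by
  constructor
  · intro hy
    let S := PBasisLib.toSubfieldOfPow p (EGA41.pPowerSubalgebra p F K).toSubring
      fun b => PBasisLib.pow_mem_pPower p b
    let T : IntermediateField k K := Subfield.toIntermediateField S
      fun c => (EGA41.pPowerSubalgebra p F K).algebraMap_mem ⟨algebraMap k K c, F.algebraMap_mem c⟩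
    have h1 : F ⊔ IntermediateField.adjoin k (Set.range fun z : K => z ^ p) ≤ T := by
      refine sup_le (fun z hz => (EGA41.pPowerSubalgebra p F K).algebraMap_mem ⟨z, hz⟩) (IntermediateField.adjoin_le_iff.2 ?_)
      rintro _ ⟨b, rfl⟩
      exact PBasisLib.pow_mem_pPower p b
    exact h1 hy
  · intro hy
    unfold EGA41.pPowerSubalgebra at hy
    induction hy using Algebra.adjoin_induction with
    | mem z hz => exact (le_sup_right : _ ≤ F ⊔ _) (IntermediateField.subset_adjoin k _ hz)
    | algebraMap c => exact (le_sup_left : _ ≤ F ⊔ IntermediateField.adjoin k (Set.range fun z : K => z ^ p)) c.2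
    | add a b _ _ ha hb => exact add_mem ha hb
    | mul a b _ _ ha hb => exact mul_mem ha hb

theorem mem_adjoin_pow_iff (y : K) :
    y ∈ IntermediateField.adjoin k (Set.range fun z : K => z ^ p) ↔ y ∈ EGA41.pPowerSubalgebra p k K := by
  constructor
  · intro hy
    let S := PBasisLib.toSubfieldOfPow p (EGA41.pPowerSubalgebra p k K).toSubring
      fun b => PBasisLib.pow_mem_pPower p b
    let T : IntermediateField k K := Subfield.toIntermediateField S
      fun c => (EGA41.pPowerSubalgebra p k K).algebraMap_mem c
    have h1 : IntermediateField.adjoin k (Set.range fun z : K => z ^ p) ≤ T := by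
      refine IntermediateField.adjoin_le_iff.2 ?_
      rintro _ ⟨b, rfl⟩
      exact PBasisLib.pow_mem_pPower p b
    exact h1 hy
  · intro hy
    exact (Algebra.adjoin_le_iff.2 (IntermediateField.subset_adjoin k _) :
      Algebra.adjoin k (Set.range fun z : K => z ^ p) ≤
        (IntermediateField.adjoin k (Set.range fun z : K => z ^ p)).toSubalgebra) hy

variable {ι : Type u} [Preorder ι] [IsDirected ι (· ≤ ·)] [Nonempty ι]

theorem exists_pIndependent (kf : ι → IntermediateField k K) (hk : Antitone kf)
    (h : (⨅ i, kf i ⊔ IntermediateField.adjoin k (Set.range fun y : K => y ^ p)) =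
      IntermediateField.adjoin k (Set.range fun y : K => y ^ p))
    {m : Type u} [Finite m] (x : m → K) (hx : EGA41.IsPIndependent p k x) :
    ∃ i, EGA41.IsPIndependent p (kf i) x := by
  classical
  haveI : Finite {e : m →₀ ℕ // ∀ l, e l < p} :=
    Finite.of_injective (fun e => fun l => (⟨e.1 l, e.2 l⟩ : Fin p)) fun e e' hee => by
      refine Subtype.ext (Finsupp.ext fun l => ?_)
      exact congrArg Fin.val (congrFun hee l)
  haveI := Fintype.ofFinite {e : m →₀ ℕ // ∀ l, e l < p}
  let F : ι → Subfield K := fun i => (kf i ⊔ IntermediateField.adjoin k (Set.range fun y : K => y ^ p)).toSubfield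
  have hF : Antitone F := fun i j hij z hz => sup_le_sup_right (hk hij) _ hz
  obtain ⟨i, hi⟩ := exists_indep_of_iInf F hF (fun e : {e : m →₀ ℕ // ∀ l, e l < p} => EGA41.pMonomial x e.1)
    Finset.univ (fun c hc hsum e _ => by
      have hc' : ∀ e, c e ∈ EGA41.pPowerSubalgebra p k K := fun e => by
        rw [← mem_adjoin_pow_iff p, ← h, ← SetLike.mem_coe, IntermediateField.coe_iInf, Set.mem_iInter]
        exact fun i => hc e (Finset.mem_univ e) i
      exact congrArg Subtype.val ((Fintype.linearIndependent_iff.1 hx) (fun e => ⟨c e, hc' e⟩) hsum e))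
  refine ⟨i, Fintype.linearIndependent_iff.2 fun g hg e => Subtype.ext ?_⟩
  exact hi (fun e => (g e : K)) (fun e _ => (mem_sup_iff p (kf i) _).2 (g e).2) hg e (Finset.mem_univ e)

end Fields

section Tensor

variable {K L : Type u} [Field K] [Field L] [Algebra K L]
  {M M' : Type u} [AddCommGroup M] [Module K M] [AddCommGroup M'] [Module K M']

theorem eq_zero_of_mem_range_baseChange (f : M →ₗ[K] M') (V : Submodule K M)
    (hf : ∀ v ∈ V, f v = 0 → v = 0) {ω : L ⊗[K] M} (hω : ω ∈ LinearMap.range (V.subtype.baseChange L))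
    (h0 : f.baseChange L ω = 0) : ω = 0 := by
  obtain ⟨t, rfl⟩ := hω
  have hinj : Function.Injective ((f.comp V.subtype).baseChange L) := by
    rw [LinearMap.baseChange_eq_ltensor]
    refine Module.Flat.lTensor_preserves_injective_linearMap (f.comp V.subtype) ?_
    rw [← LinearMap.ker_eq_bot, LinearMap.ker_eq_bot']
    exact fun v hv => Subtype.ext (hf v v.2 hv)
  have h1 : (f.comp V.subtype).baseChange L t = 0 := by
    rw [LinearMap.baseChange_comp]
    exact h0
  rw [hinj (h1.trans (map_zero _).symm), map_zero]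

end Tensor

section Admissible

variable (p : ℕ) [Fact p.Prime] {k K L : Type u} [Field k] [Field K] [Field L] [Algebra k K] [Algebra K L] [CharP K p]

theorem range_baseChange_mono {M : Type u} [AddCommGroup M] [Module K M] {V V' : Submodule K M} (h : V ≤ V') :
    LinearMap.range (V.subtype.baseChange L) ≤ LinearMap.range (V'.subtype.baseChange L) := by
  rintro _ ⟨t, rfl⟩
  refine ⟨(Submodule.inclusion h).baseChange L t, ?_⟩
  rw [← LinearMap.comp_apply, ← LinearMap.baseChange_comp]
  rfl

omit [Fact p.Prime] [CharP K p] in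
theorem exists_finset_le_range (N : Submodule L (L ⊗[K] Ω[K⁄k])) (hN : N.FG) :
    ∃ S : Finset K, N ≤ LinearMap.range
      ((Submodule.span K ((fun y => KaehlerDifferential.D k K y) '' (S : Set K))).subtype.baseChange L) := by
  classical
  have key : ∀ ω : L ⊗[K] Ω[K⁄k], ∃ S : Finset K, ω ∈ LinearMap.range
      ((Submodule.span K ((fun y => KaehlerDifferential.D k K y) '' (S : Set K))).subtype.baseChange L) := by
    intro ω
    induction ω using TensorProduct.induction_on with
    | zero => exact ⟨∅, zero_mem _⟩
    | tmul l η =>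
      have hη : η ∈ Submodule.span K (Set.range (KaehlerDifferential.D k K)) := by
        rw [KaehlerDifferential.span_range_derivation]; trivial
      obtain ⟨T, hT, hηT⟩ := Submodule.mem_span_finite_of_mem_span hη
      choose y hy using fun t : T => hT t.2
      refine ⟨Finset.univ.image y, ⟨l ⊗ₜ ⟨η, Submodule.span_mono ?_ hηT⟩, by rw [LinearMap.baseChange_tmul]; rfl⟩⟩
      intro t ht
      exact ⟨y ⟨t, ht⟩, by simp, hy ⟨t, ht⟩⟩
    | add a b ha hb =>
      obtain ⟨S, hS⟩ := ha
      obtain ⟨S', hS'⟩ := hb
      refine ⟨S ∪ S', add_mem (range_baseChange_mono ?_ hS) (range_baseChange_mono ?_ hS')⟩ <;>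
        exact Submodule.span_mono (Set.image_mono (by simp))
  obtain ⟨G, rfl⟩ := hN
  choose S hS using key
  refine ⟨G.biUnion S, Submodule.span_le.2 fun ω hω => ?_⟩
  exact range_baseChange_mono (Submodule.span_mono (Set.image_mono
    (Finset.coe_subset.2 (Finset.subset_biUnion_of_mem S hω)))) (hS ω)

variable {ι : Type u} [Preorder ι] [IsDirected ι (· ≤ ·)] [Nonempty ι]

theorem exists_admissible (kf : ι → IntermediateField k K) (hk : Antitone kf)
    (h : (⨅ i, kf i ⊔ IntermediateField.adjoin k (Set.range fun y : K => y ^ p)) =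
      IntermediateField.adjoin k (Set.range fun y : K => y ^ p))
    (N : Submodule L (L ⊗[K] Ω[K⁄k])) (hN : N.FG) :
    ∃ i, ∀ j, i ≤ j → ∀ ω ∈ N,
      ((KaehlerDifferential.map k (kf j) K K).restrictScalars K).baseChange L ω = 0 → ω = 0 := by
  classical
  obtain ⟨S, hS⟩ := exists_finset_le_range N hN
  obtain ⟨b, hbsub, hbspan, hbind⟩ :=
    exists_linearIndependent K ((fun y => KaehlerDifferential.D k K y) '' (S : Set K))
  haveI : Finite b := ((S.finite_toSet.image _).subset hbsub).to_subtype
  choose x hx using fun v : b => hbsub v.2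
  have hxD : (fun v : b => KaehlerDifferential.D k K (x v)) = ((↑) : b → Ω[K⁄k]) := funext fun v => (hx v).2
  obtain ⟨i, hi⟩ := exists_pIndependent p kf hk h x
    ((PBasisLib.pIndependent_iff p x).2 (by rw [hxD]; exact hbind))
  refine ⟨i, fun j hij ω hω h0 => eq_zero_of_mem_range_baseChange _ _ ?_ (hS hω) h0⟩
  intro v hv hv0
  haveI := Fintype.ofFinite b
  have hj : EGA41.IsPIndependent p (kf j) x := by
    haveI : Finite {e : b →₀ ℕ // ∀ l, e l < p} :=
      Finite.of_injective (fun e => fun l => (⟨e.1 l, e.2 l⟩ : Fin p)) fun e e' hee =>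
        Subtype.ext (Finsupp.ext fun l => congrArg Fin.val (congrFun hee l))
    haveI := Fintype.ofFinite {e : b →₀ ℕ // ∀ l, e l < p}
    refine Fintype.linearIndependent_iff.2 fun g hg e => Subtype.ext ?_
    have hmem : ∀ e, (g e : K) ∈ EGA41.pPowerSubalgebra p (kf i) K := fun e =>
      (mem_sup_iff p (kf i) _).1 (sup_le_sup_right (hk hij) _ ((mem_sup_iff p (kf j) _).2 (g e).2))
    have h5 := Fintype.linearIndependent_iff.1 hi (fun e => ⟨(g e : K), hmem e⟩) hg e
    exact congrArg (fun t : EGA41.pPowerSubalgebra p (kf i) K => (t : K)) h5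
  have hind := (PBasisLib.pIndependent_iff p x).1 hj
  rw [← hbspan, ← Subtype.range_coe (s := b), ← hxD, Submodule.mem_span_range_iff_exists_fun] at hv
  obtain ⟨c, rfl⟩ := hv
  have hc : ∀ e, c e = 0 := Fintype.linearIndependent_iff.1 hind c (by
    refine Eq.trans (Finset.sum_congr rfl fun e _ => ?_) ((map_sum _ _ _).symm.trans hv0)
    rw [map_smul]
    exact congrArg (c e • ·) (KaehlerDifferential.map_D k (kf j) K K (x e)).symm)
  exact Finset.sum_eq_zero fun e _ => by rw [hc e, zero_smul]

end Admissible

end Groth.Agent.ImperfLib
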